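import Groth.Agent.Lib.ExtFilt.Sheaf
import Groth.Agent.Lib.Modules.TensorSec
import Mathlib.LinearAlgebra.Multilinear.TensorProduct
import Mathlib.LinearAlgebra.Alternating.DomCoprod

/-!
# Comultiplication splits multiplication on exterior powers
-/

set_option autoImplicit false
set_option linter.style.haveILetI false
universe u

open CategoryTheory CategoryTheory.Limits AlgebraicGeometry Opposite TopologicalSpace
open scoped TensorProduct

noncomputable section

namespace Groth.Agent.Lib.BiReg90.Comult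

open Groth.Agent.Lib Modules.TensorSec ExtFilt.Sheaf
open Groth.Agent.Lib.TensorMod.Dual (rs rf rs_smul rs_rs rs_self)
open Groth.Agent.Lib.CohBasics.Affine (secₗ)

section Alg

variable (R M : Type u) [CommRing R] [AddCommGroup M] [Module R M] {n : ℕ}

/-- The equivalence of index types. -/
def σ₀ (h : 1 + n = n + 1) : Fin 1 ⊕ Fin n ≃ Fin (n + 1) := finSumFinEquiv.trans (finCongr h)

theorem append_σ₀ {α : Type u} (h : 1 + n = n + 1) (v : Fin (n + 1) → α) :
    Fin.append (fun i => v (σ₀ h (Sum.inl i))) (fun i => v (σ₀ h (Sum.inr i))) ∘ Fin.cast h.symm = v := by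
  funext i
  obtain ⟨j, rfl⟩ := (finCongr h).surjective i
  refine Fin.addCases (fun a => ?_) (fun b => ?_) j
  · exact (Fin.append_left _ _ a).trans rfl
  · exact (Fin.append_right _ _ b).trans rfl

/-- The first factor tensor the rest. -/
def splitM (h : 1 + n = n + 1) :
    MultilinearMap R (fun _ : Fin (n + 1) => M) ((⋀[R]^1 M) ⊗[R] (⋀[R]^n M)) :=
  ((exteriorPower.ιMulti R 1 (M := M)).toMultilinearMap.domCoprod
    (exteriorPower.ιMulti R n (M := M)).toMultilinearMap).domDomCongr (σ₀ h)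

/-- Comultiplication, antisymmetrised. -/
def comult (h : 1 + n = n + 1) : (⋀[R]^(n + 1) M) →ₗ[R] (⋀[R]^1 M) ⊗[R] (⋀[R]^n M) :=
  exteriorPower.alternatingMapLinearEquiv (R := R) (n := n + 1) (M := M) (N := (⋀[R]^1 M) ⊗[R] (⋀[R]^n M))
    (MultilinearMap.alternatization (N' := (⋀[R]^1 M) ⊗[R] (⋀[R]^n M)) (splitM R M h))

theorem comult_ιMulti (h : 1 + n = n + 1) (v : Fin (n + 1) → M) :
    comult R M h (exteriorPower.ιMulti R (n + 1) v) = ∑ τ : Equiv.Perm (Fin (n + 1)),
      ((Equiv.Perm.sign τ : ℤˣ) : ℤ) • (exteriorPower.ιMulti R 1 (fun i => v (τ (σ₀ h (Sum.inl i)))) ⊗ₜ[R]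
        exteriorPower.ιMulti R n (fun i => v (τ (σ₀ h (Sum.inr i))))) := by
  rw [comult, exteriorPower.alternatingMapLinearEquiv_apply_ιMulti, MultilinearMap.alternatization_apply]
  exact Finset.sum_congr rfl fun τ _ => rfl

theorem mu_comult (h : 1 + n = n + 1) (x : ⋀[R]^(n + 1) M) :
    ExtFilt.Algebra.mu h (LinearMap.id : M →ₗ[R] M) (comult R M h x) =
      Fintype.card (Equiv.Perm (Fin (n + 1))) • x := by
  have key : (ExtFilt.Algebra.mu h (LinearMap.id : M →ₗ[R] M)).comp (comult R M h) =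
      Fintype.card (Equiv.Perm (Fin (n + 1))) • LinearMap.id := by
    refine exteriorPower.linearMap_ext ?_
    ext v
    simp only [LinearMap.compAlternatingMap_apply, LinearMap.comp_apply, LinearMap.smul_apply,
      LinearMap.id_apply]
    rw [comult_ιMulti, map_sum]
    refine congrArg Subtype.val ((Finset.sum_congr rfl fun τ _ => ?_).trans (Finset.sum_const _))
    rw [map_zsmul, ExtFilt.Algebra.mu_ιMulti]
    have he : Fin.append (⇑(LinearMap.id : M →ₗ[R] M) ∘ fun i => v (τ (σ₀ h (Sum.inl i))))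
        (fun i => v (τ (σ₀ h (Sum.inr i)))) ∘ Fin.cast h.symm = v ∘ τ := append_σ₀ h (v ∘ τ)
    rw [he, AlternatingMap.map_perm, Units.smul_def, smul_smul, ← Units.val_mul, Int.units_mul_self,
      Units.val_one, one_smul]
  exact LinearMap.congr_fun key x

end Alg

variable {X : Scheme.{u}} {G : X.Modules} (F : Fam G) {n : ℕ}

/-- Comultiplication on affine opens. -/
def cVal (h : 1 + n = n + 1) (U : X.affineOpens) :
    Γ(F.L (n + 1), U.1) →ₗ[Γ(X, U.1)] Γ(CohB1.tensorMod (F.L 1) (F.L n), U.1) :=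
  (T F F 1 n U).symm.toLinearMap ∘ₗ comult Γ(X, U.1) Γ(G, U.1) h ∘ₗ (F.φ (n + 1) U).toLinearMap

theorem T_symm_tmul (U : X.affineOpens) (p : ⋀[Γ(X, U.1)]^1 Γ(G, U.1)) (q : ⋀[Γ(X, U.1)]^n Γ(G, U.1)) :
    (T F F 1 n U).symm (p ⊗ₜ q) = tens ((F.φ 1 U).symm p) ((F.φ n U).symm q) := by
  rw [LinearEquiv.symm_apply_eq, T_tens, LinearEquiv.apply_symm_apply, LinearEquiv.apply_symm_apply]

theorem cVal_gen (h : 1 + n = n + 1) (U : X.affineOpens) (v : Fin (n + 1) → Γ(G, U.1)) :
    cVal F h U ((F.φ (n + 1) U).symm (exteriorPower.ιMulti _ _ v)) = ∑ τ : Equiv.Perm (Fin (n + 1)),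
      ((Equiv.Perm.sign τ : ℤˣ) : ℤ) • tens
        ((F.φ 1 U).symm (exteriorPower.ιMulti _ 1 (fun i => v (τ (σ₀ h (Sum.inl i))))))
        ((F.φ n U).symm (exteriorPower.ιMulti _ n (fun i => v (τ (σ₀ h (Sum.inr i)))))) := by
  simp only [cVal, LinearMap.comp_apply, LinearEquiv.coe_coe, LinearEquiv.apply_symm_apply, comult_ιMulti,
    map_sum, map_zsmul, T_symm_tmul]

theorem exists_comult (h : 1 + n = n + 1) :
    ∃ c : F.L (n + 1) ⟶ CohB1.tensorMod (F.L 1) (F.L n), ∀ (U : X.affineOpens) (s), c.app U.1 s = cVal F h U s := by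
  refine Modules.AffineHom.exists_hom_of_affine (cVal F h) fun U V hVU s => ?_
  induction s using ExtFilt.Sheaf.sec_induction F with
  | gen e =>
    rw [cVal_gen, F.compat, cVal_gen]
    refine (Modules.TensorSec.rs_sum _ _ _ _).trans ?_
    refine Finset.sum_congr rfl fun τ _ => ?_
    refine (map_zsmul ((CohB1.tensorMod (F.L 1) (F.L n)).presheaf.map (homOfLE hVU).op).hom _ _).trans ?_
    congr 1
    exact (rs_tens hVU _ _).trans (by rw [F.compat, F.compat])
  | zero => simp only [map_zero]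
  | add a b ha hb => simp only [map_add, ha, hb]
  | smul c a ha => simp only [map_smul, rs_smul, ha]

theorem app_nsmul {M N : X.Modules} (f : M ⟶ N) (U : X.Opens) (s : Γ(M, U)) (m : ℕ) :
    (m • f).app U s = m • f.app U s := by
  induction m with
  | zero => simp only [zero_smul]; rfl
  | succ m ih => rw [succ_nsmul, succ_nsmul, Scheme.Modules.Hom.add_app, ← ih]; rfl

/-- Multiplication after comultiplication is a positive integer. -/
theorem exists_comult_comp_mu (h : 1 + n = n + 1) :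
    ∃ c : F.L (n + 1) ⟶ CohB1.tensorMod (F.L 1) (F.L n),
      c ≫ muHom F F (𝟙 G) h = Fintype.card (Equiv.Perm (Fin (n + 1))) • 𝟙 (F.L (n + 1)) := by
  obtain ⟨c, hc⟩ := exists_comult F h
  refine ⟨c, Modules.AffineHom.hom_ext_affine fun U s => ?_⟩
  rw [app_nsmul]
  show (muHom F F (𝟙 G) h).app U.1 (c.app U.1 s) = _
  rw [hc, muHom_app]
  have hid : secₗ (𝟙 G) U.1 = LinearMap.id := LinearMap.ext fun x => rfl
  simp only [cVal, LinearMap.comp_apply, LinearEquiv.coe_coe, LinearEquiv.apply_symm_apply, hid, mu_comult,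
    map_nsmul, LinearEquiv.symm_apply_apply]
  rfl

/-- Multiplication by degree one is surjective. -/
theorem epi_mu (h : 1 + n = n + 1) : Epi (muHom F F (𝟙 G) h) := by
  refine ClSub.Basis.epi_of_surjective_affine (φ := muHom F F (𝟙 G) h) fun U z => ?_
  induction z using ExtFilt.Sheaf.sec_induction F with
  | gen e =>
    refine ⟨tens ((F.φ 1 U).symm (exteriorPower.ιMulti _ 1 (fun i => e (σ₀ h (Sum.inl i)))))
      ((F.φ n U).symm (exteriorPower.ιMulti _ n (fun i => e (σ₀ h (Sum.inr i))))), ?_⟩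
    refine ((exists_mu F F (𝟙 G) h).choose_spec U _).trans ((muVal_gen F F (𝟙 G) h U _ _).trans ?_)
    congr 2
    exact append_σ₀ h e
  | zero => exact ⟨0, map_zero _⟩
  | add a b ha hb =>
    obtain ⟨x, hx⟩ := ha; obtain ⟨y, hy⟩ := hb
    exact ⟨x + y, by rw [map_add, hx, hy]⟩
  | smul c a ha =>
    obtain ⟨x, hx⟩ := ha
    exact ⟨c • x, by rw [Scheme.Modules.Hom.app_smul, hx]⟩

end Groth.Agent.Lib.BiReg90.Comult
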