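import Groth.Agent.Lib.BiReg90.Quadric
import Groth.Agent.Lib.BiReg90.Comult
import Groth.Agent.Lib.ExtFilt.Lambda
import Groth.Agent.Lib.GrassGen.ExtPowFree
import Groth.Agent.Lib.FundLocal.ExtPowExists

/-!
# Regularity of exterior powers on the quadric
-/

set_option autoImplicit false
set_option linter.style.haveILetI false
universe u

open CategoryTheory CategoryTheory.Limits AlgebraicGeometry TopologicalSpace

noncomputable section

namespace Groth.Agent.Lib.BiReg90.Ext

open Groth.Agent Groth.Agent.Lib Groth.Agent.Lib.QuadricKer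
open Groth.Agent.Lib.TensorMod.Basic (tmap comm assoc tensorIso leftUnit rightUnit)
open Groth.Agent.Lib.Curves.LES (mapK mapK_comp mapK_id isoK)

/-- A family of exterior powers extending a given one. -/
theorem exists_fam {X : Scheme.{u}} {G : X.Modules} (hG : FlatMod.IsFinLocFree G) {j : ℕ} {L : X.Modules}
    (hL : ExtPow.IsExtPow j G L) : ∃ F : ExtFilt.Sheaf.Fam G, Nonempty (F.L j ≅ L) := by
  haveI := Modules.AffineSections.isQCoh_of_isFinLocFree hG
  choose M hM using fun i => FundLocal.ExtPowExists.exists_isExtPow (E := G) i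
  choose φ hφ using hM
  exact ⟨⟨M, fun i => GrassGen.ExtPowFree.isFinLocFree hG ⟨φ i, hφ i⟩, φ, hφ⟩,
    ExtFilt.Lambda.nonempty_iso_of_isExtPow ⟨φ j, hφ j⟩ hL⟩

theorem gg_of_iso {X : Scheme.{u}} {A B : X.Modules} (e : A ≅ B) (h : Curv2.IsGloballyGenerated A) :
    Curv2.IsGloballyGenerated B :=
  @H34.GlobGen.gg_of_epi _ _ _ e.hom (IsIso.epi_of_iso e.hom) h

theorem gg_tmap_left {X : Scheme.{u}} (Z : X.Modules) {A B : X.Modules} (f : A ⟶ B) [Epi f]
    (h : Curv2.IsGloballyGenerated (CohB1.tensorMod Z A)) :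
    Curv2.IsGloballyGenerated (CohB1.tensorMod Z B) := by
  haveI : PreservesColimitsOfSize.{0, 0} ((TensorMod.Basic.tensorFunctor X).obj Z) :=
    preservesSmallestColimits_of_preservesColimits _
  have h1 : Epi (((TensorMod.Basic.tensorFunctor X).obj Z).map f) := Functor.map_epi _ f
  exact @H34.GlobGen.gg_of_epi _ _ _ _ h1 h

/-- The tensor product of two globally generated bundles is globally generated. -/
theorem gg_tensor {X : Scheme.{u}} [CompactSpace X] {A B : X.Modules} (hA : FlatMod.IsFinLocFree A)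
    (hB : FlatMod.IsFinLocFree B) (h : Curv2.IsGloballyGenerated A) (h' : Curv2.IsGloballyGenerated B) :
    Curv2.IsGloballyGenerated (CohB1.tensorMod A B) := by
  obtain ⟨n, p, hp⟩ := H34.GlobGen.exists_free_epi hA h
  obtain ⟨m, q, hq⟩ := H34.GlobGen.exists_free_epi hB h'
  have h1 : Curv2.IsGloballyGenerated (CohB1.tensorMod (FlatMod.freeMod X m) (FlatMod.freeMod X n)) :=
    gg_of_iso (TensorMod.LocFree.tensorFreeModIso X m n).symm
      (H34.GlobGen.gg_sigma (fun _ : Fin (m * n) => Coh.structureModule X) fun _ => H34.GlobGen.gg_structureModule X)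
  exact gg_tmap_left A q (gg_of_iso (comm (FlatMod.freeMod X m) A) (gg_tmap_left _ p h1))

theorem mapK_nsmul_id (k : Type u) [Field k] {X : Scheme.{u}} [X.Over (Spec (CommRingCat.of k))]
    (M : X.Modules) (q N : ℕ) (x : Coh.HH X M q) : mapK k (N • 𝟙 M) q x = (N : k) • x := by
  have h : N • 𝟙 M = ∑ _i ∈ Finset.range N, 𝟙 M := by rw [Finset.sum_const, Finset.card_range]
  rw [h]
  refine (QuadricKer.Gen.mapK_sum k _ _ q x).trans ?_
  rw [mapK_id]
  exact (Finset.sum_const x).trans (by rw [Finset.card_range, ← Nat.cast_smul_eq_nsmul k])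

theorem retract {k : Type u} [Field k] [CharZero k] {X : Scheme.{u}} [X.Over (Spec (CommRingCat.of k))]
    {M N : X.Modules} (c : M ⟶ N) (μ : N ⟶ M) {a : ℕ} (ha : a ≠ 0) (h : c ≫ μ = a • 𝟙 M) {q : ℕ}
    (hN : Subsingleton (Coh.HH X N q)) : Subsingleton (Coh.HH X M q) := by
  refine subsingleton_of_forall_eq 0 fun x => ?_
  have h1 := mapK_nsmul_id k M q a x
  rw [← h, mapK_comp, LinearMap.comp_apply, @Subsingleton.elim _ hN (mapK k c q x) 0, map_zero] at h1
  exact (smul_eq_zero.1 h1.symm).resolve_left (Nat.cast_ne_zero.2 ha)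

variable (k : Type u) [Field k]

theorem noeth : IsNoetherian (W4c3multigrregular.biProj 1 1 k) := by
  haveI : IsProper (W4c3multigrregular.biProj 1 1 k ↘ Spec (CommRingCat.of k)) := by
    haveI : IsProper (CohB1.ProjSpace.toSpec 1 k) := ProjSpace.Basic.isProper_toSpec 1 k
    exact inferInstanceAs (IsProper (W4c3multigrregular.biProj.toSpec 1 1 k))
  exact Curves.GlobalSections.isNoetherian_of_proper k _

theorem isBiReg_of_iso {A B : (W4c3multigrregular.biProj 1 1 k).Modules} (e : A ≅ B) {p q : ℤ}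
    (h : W4c3multigrregular.IsBiReg 1 1 k A p q) : W4c3multigrregular.IsBiReg 1 1 k B p q :=
  fun u₁ u₂ hu => haveI := noeth k; Main.of_iso k (tensorIso e (Iso.refl _)) (h u₁ u₂ hu)

theorem isBiReg_structure :
    W4c3multigrregular.IsBiReg 1 1 k (Coh.structureModule (W4c3multigrregular.biProj 1 1 k)) 0 0 := by
  intro u₁ u₂ hu
  haveI := noeth k
  refine Main.of_iso k (leftUnit _).symm ?_
  refine Box.subsingleton_T k fun a b hab => ?_
  unfold Line.Van
  omega

theorem gg_structure_twist :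
    Curv2.IsGloballyGenerated
      (W4c3multigrregular.twistBi 1 1 k (Coh.structureModule (W4c3multigrregular.biProj 1 1 k)) 0 0) :=
  gg_of_iso ((leftUnit _).trans (Box.T00 k)).symm (H34.GlobGen.gg_structureModule _)

theorem main [CharZero k] {G : (W4c3multigrregular.biProj 1 1 k).Modules} (hG : FlatMod.IsFinLocFree G) {p q : ℤ}
    (hreg : W4c3multigrregular.IsBiReg 1 1 k G p q)
    (hgg : Curv2.IsGloballyGenerated (W4c3multigrregular.twistBi 1 1 k G p q)) (F : ExtFilt.Sheaf.Fam G) (j : ℕ) :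
    W4c3multigrregular.IsBiReg 1 1 k (F.L j) (j * p) (j * q) ∧
      Curv2.IsGloballyGenerated (W4c3multigrregular.twistBi 1 1 k (F.L j) (j * p) (j * q)) := by
  haveI := noeth k
  obtain ⟨e₁⟩ := ExtFilt.Lambda.nonempty_iso_of_isExtPow (ExtFilt.Lambda.isExtPow_one G) ⟨F.φ 1, F.compat 1⟩
  induction j with
  | zero =>
    obtain ⟨e₀⟩ := ExtFilt.Lambda.nonempty_iso_of_isExtPow (ExtFilt.Lambda.isExtPow_zero G) ⟨F.φ 0, F.compat 0⟩
    rw [Nat.cast_zero, zero_mul, zero_mul]
    exact ⟨isBiReg_of_iso k e₀ (isBiReg_structure k),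
      gg_of_iso (tensorIso e₀ (Iso.refl _)) (gg_structure_twist k)⟩
  | succ n ih =>
    have h : 1 + n = n + 1 := Nat.add_comm 1 n
    have hreg₁ := isBiReg_of_iso k e₁ hreg
    have hgg₁ := gg_of_iso (tensorIso e₁ (Iso.refl _)) hgg
    have hT := Quadric.isBiReg_tensor k (F.free 1) (F.free n) hreg₁ ih.1 hgg₁ ih.2
    have hggT := gg_of_iso (Quadric.bigIso k (F.L 1) (F.L n) 0 0 p q (n * p) (n * q))
      (gg_tensor (Quadric.locFree_twist k (F.free 1) _ _) (Quadric.locFree_twist k (F.free n) _ _)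
        (by rw [zero_add, zero_add]; exact hgg₁) ih.2)
    rw [show ((n + 1 : ℕ) : ℤ) * p = p + n * p by push_cast; ring,
      show ((n + 1 : ℕ) : ℤ) * q = q + n * q by push_cast; ring]
    rw [zero_add, zero_add] at hggT
    haveI := Comult.epi_mu F h
    refine ⟨fun u₁ u₂ hu => ?_, ?_⟩
    · obtain ⟨c, hc⟩ := Comult.exists_comult_comp_mu F h
      let Z := W4c3multigrregular.lineBundle 1 1 k (p + n * p - u₁) (q + n * q - u₂)
      refine Main.of_iso k (comm Z (F.L (n + 1))) ?_
      refine retract (k := k) ((Modules.DualAdj.tensorL Z).map c)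
        ((Modules.DualAdj.tensorL Z).map (ExtFilt.Sheaf.muHom F F (𝟙 G) h))
        (Fintype.card_ne_zero (α := Equiv.Perm (Fin (n + 1)))) ?_
        (Main.of_iso k (comm _ Z) (hT u₁ u₂ hu))
      refine ((Modules.DualAdj.tensorL Z).map_comp _ _).symm.trans ?_
      rw [hc, Functor.map_nsmul, CategoryTheory.Functor.map_id]
    · exact gg_of_iso (comm _ _) (gg_tmap_left _ (ExtFilt.Sheaf.muHom F F (𝟙 G) h)
        (gg_of_iso (comm _ _) hggT))

end Groth.Agent.Lib.BiReg90.Ext
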