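import Groth.Agent.Lib.QuadricKer.Box
import Groth.Agent.Lib.Flat55.DimSums
import Groth.Agent.Lib.ProjSpace.Dim
import Groth.Agent.Lib.Snapper.Chi
import Groth.Agent.Lib.QuadricKer.Gen
import Groth.Agent.Lib.Modules.DualAdj
import Groth.Agent.Lib.TensorMod.LocFree
import Groth.Agent.H34.GlobGen
import Groth.Prelude.Def_W4c3multigrregularBiProj

/-!
# Tensor products of regular globally generated bundles in dimension two
-/

set_option autoImplicit false
set_option linter.style.haveILetI false
set_option linter.unusedSectionVars false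
universe u

open CategoryTheory CategoryTheory.Limits AlgebraicGeometry TopologicalSpace

noncomputable section

namespace Groth.Agent.Lib.BiReg90.Main

open Groth.Agent Groth.Agent.Lib
open Groth.Agent.Lib.TensorMod.Basic (tmap comm assoc tensorIso leftUnit rightUnit)
open Groth.Agent.Lib.Curves.LES (mapK mapK_comp mapK_id isoK)
open Groth.Agent.Lib.Modules.DualAdj (tensorL)
open Groth.Agent.Lib.Modules.DualBasis (HasDBases)

variable (k : Type u) [Field k] {X : Scheme.{u}} [X.Over (Spec (CommRingCat.of k))]
  [NoetherianSpace X]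

include k

omit k in
theorem hasDBases {E : X.Modules} (hE : FlatMod.IsFinLocFree E) : HasDBases E :=
  Modules.DualBasis.hasDBases_of_isFinLocFree hE

theorem of_iso {M N : X.Modules} (e : M ≅ N) {q : ℕ} (h : Subsingleton (Coh.HH X M q)) :
    Subsingleton (Coh.HH X N q) :=
  (isoK k e q).symm.injective.subsingleton

/-- Vanishing passes to a free sum. -/
theorem free_tensor (r : ℕ) (Z : X.Modules) (q : ℕ) (h : Subsingleton (Coh.HH X Z q)) :
    Subsingleton (Coh.HH X (CohB1.tensorMod Z (FlatMod.freeMod X r)) q) := by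
  haveI : PreservesColimitsOfSize.{0, 0} ((TensorMod.Basic.tensorFunctor X).obj Z) :=
    preservesSmallestColimits_of_preservesColimits _
  haveI : ((TensorMod.Basic.tensorFunctor X).obj Z).Additive :=
    Functor.additive_of_preserves_binary_products _
  exact QuadricKer.Gen.subsingleton_map_sigma k ((TensorMod.Basic.tensorFunctor X).obj Z)
    (fun _ : Fin r => Coh.structureModule X) fun _ => of_iso k (rightUnit Z).symm h

variable (hdim : topologicalKrullDim X ≤ (2 : ℕ))

include hdim

/-- `H²` of a quotient. -/
theorem top_of_epi {M N : X.Modules} (p : M ⟶ N) [Epi p] (h : Subsingleton (Coh.HH X M 2)) :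
    Subsingleton (Coh.HH X N 2) := by
  refine subsingleton_of_forall_eq 0 fun y => ?_
  have hS : (ShortComplex.mk (kernel.ι p) p (kernel.condition p)).ShortExact :=
    { exact := ShortComplex.exact_kernel p }
  haveI := Snapper.Chi.subsingleton_HH_of_lt hdim (kernel p) (p := 3) (by norm_num)
  obtain ⟨x, hx⟩ := (Curves.LES.exactK₃ k hS 2 3 rfl y).1 (Subsingleton.elim (α := Coh.HH X (kernel p) 3) _ _)
  rw [← hx, Subsingleton.elim x 0, map_zero]

/-- `H²` vanishing of `E ⊗ B` for globally generated `B`. -/
theorem h2_tensor {E B : X.Modules} {n : ℕ}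
    (p : FlatMod.freeMod X n ⟶ B) [Epi p] (h : Subsingleton (Coh.HH X E 2)) :
    Subsingleton (Coh.HH X (CohB1.tensorMod E B) 2) := by
  haveI : PreservesColimitsOfSize.{0, 0} ((TensorMod.Basic.tensorFunctor X).obj E) :=
    preservesSmallestColimits_of_preservesColimits _
  haveI : Epi (((TensorMod.Basic.tensorFunctor X).obj E).map p) := Functor.map_epi _ p
  have h2 := top_of_epi k hdim (((TensorMod.Basic.tensorFunctor X).obj E).map p) (free_tensor k n E 2 h)
  exact h2

/-- `H¹` vanishing of `W ⊗ A ⊗ B`. -/
theorem h1_tensor {W A B : X.Modules} (hW : FlatMod.IsFinLocFree W)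
    (hWA : FlatMod.IsFinLocFree (CohB1.tensorMod W A)) {n m : ℕ}
    (p : FlatMod.freeMod X n ⟶ B) [Epi p] (a : FlatMod.freeMod X m ⟶ A) [Epi a]
    (hA : Subsingleton (Coh.HH X (CohB1.tensorMod W A) 1))
    (hB : Subsingleton (Coh.HH X (CohB1.tensorMod W B) 1))
    (hW2 : Subsingleton (Coh.HH X W 2)) :
    Subsingleton (Coh.HH X (CohB1.tensorMod (CohB1.tensorMod W A) B) 1) := by
  have hS : (ShortComplex.mk (kernel.ι p) p (kernel.condition p)).ShortExact :=
    { exact := ShortComplex.exact_kernel p }
  set K := kernel p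
  have hK : Subsingleton (Coh.HH X (CohB1.tensorMod W K) 2) := by
    haveI := Modules.DualAdj.tensorL_preservesHomology (hasDBases hW)
    haveI := Functor.preservesFiniteLimits_of_preservesHomology (tensorL W)
    haveI := Functor.preservesFiniteColimits_of_preservesHomology (tensorL W)
    have hT := hS.map_of_exact (tensorL W)
    refine subsingleton_of_forall_eq 0 fun z => ?_
    obtain ⟨y, hy⟩ := (Curves.LES.exactK₁ k hT 1 2 rfl z).1
      (@Subsingleton.elim _ (free_tensor k n W 2 hW2) _ _)
    rw [← hy, @Subsingleton.elim _ hB y 0]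
    exact map_zero _
  have hKA : Subsingleton (Coh.HH X (CohB1.tensorMod (CohB1.tensorMod W A) K) 2) := by
    haveI : ((TensorMod.Basic.tensorFunctor X).obj (CohB1.tensorMod W K)).PreservesEpimorphisms :=
      haveI : PreservesColimitsOfSize.{0, 0} ((TensorMod.Basic.tensorFunctor X).obj (CohB1.tensorMod W K)) :=
        preservesSmallestColimits_of_preservesColimits _
      inferInstance
    let F := (TensorMod.Basic.tensorFunctor X).obj (CohB1.tensorMod W K)
    haveI : Epi (F.map a) := F.map_epi a
    have h := top_of_epi k hdim (F.map a) (free_tensor k m _ 2 hK)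
    exact of_iso k (assoc W K A ≪≫ tensorIso (Iso.refl W) (comm K A) ≪≫ (assoc W A K).symm) h
  haveI := Modules.DualAdj.tensorL_preservesHomology (hasDBases hWA)
  haveI := Functor.preservesFiniteLimits_of_preservesHomology (tensorL (CohB1.tensorMod W A))
  haveI := Functor.preservesFiniteColimits_of_preservesHomology (tensorL (CohB1.tensorMod W A))
  have hT := hS.map_of_exact (tensorL (CohB1.tensorMod W A))
  refine subsingleton_of_forall_eq 0 fun z => ?_
  obtain ⟨y, hy⟩ := (Curves.LES.exactK₃ k hT 1 2 rfl z).1 (@Subsingleton.elim _ hKA _ _)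
  rw [← hy, @Subsingleton.elim _ (free_tensor k n _ 1 hA) y 0]
  exact map_zero _

end Groth.Agent.Lib.BiReg90.Main
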