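import Groth.Agent.Lib.BiReg90.Main

/-!
# Regularity of tensor products on the quadric
-/

set_option autoImplicit false
set_option linter.style.haveILetI false
universe u

open CategoryTheory CategoryTheory.Limits AlgebraicGeometry TopologicalSpace

noncomputable section

namespace Groth.Agent.Lib.BiReg90.Quadric

open Groth.Agent Groth.Agent.Lib Groth.Agent.Lib.QuadricKer
open Groth.Agent.Lib.TensorMod.Basic (tmap comm assoc tensorIso leftUnit rightUnit)
open Groth.Agent.Lib.Curves.LES (mapK mapK_comp mapK_id isoK)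

variable (k : Type u) [Field k]

theorem dim_le : topologicalKrullDim (W4c3multigrregular.biProj 1 1 k) ≤ (2 : ℕ) := by
  rw [Flat55.DimSums.dim_pullback, ProjSpace.Dim.topologicalKrullDim_projSpace_of_field]
  exact le_of_eq rfl

theorem locFree_T (a b : ℤ) : FlatMod.IsFinLocFree (Box.T k a b) :=
  TensorMod.LocFree.of_rank (TensorMod.LocFree.of_isInvertible (Box.isInvertible_T k a b))

theorem locFree_twist {G : (W4c3multigrregular.biProj 1 1 k).Modules} (hG : FlatMod.IsFinLocFree G)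
    (a b : ℤ) : FlatMod.IsFinLocFree (W4c3multigrregular.twistBi 1 1 k G a b) :=
  TensorMod.LocFree.isFinLocFree_tensorMod hG (locFree_T k a b)

/-- `W ⊗ G(p, q) ≅ G(w₁ + p, w₂ + q)`. -/
def wIso (G : (W4c3multigrregular.biProj 1 1 k).Modules) (w₁ w₂ p q : ℤ) :
    CohB1.tensorMod (Box.T k w₁ w₂) (W4c3multigrregular.twistBi 1 1 k G p q) ≅
      W4c3multigrregular.twistBi 1 1 k G (w₁ + p) (w₂ + q) :=
  (assoc _ _ _).symm ≪≫ tensorIso (comm _ _) (Iso.refl _) ≪≫ assoc _ _ _ ≪≫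
    tensorIso (Iso.refl _) (Box.T_T k w₁ w₂ p q)

/-- `(G ⊗ G')(w + p + m, w + q + n) ≅ (W ⊗ G(p, q)) ⊗ G'(m, n)`. -/
def bigIso (G G' : (W4c3multigrregular.biProj 1 1 k).Modules) (w₁ w₂ p q m n : ℤ) :
    CohB1.tensorMod (W4c3multigrregular.twistBi 1 1 k G (w₁ + p) (w₂ + q))
        (W4c3multigrregular.twistBi 1 1 k G' m n) ≅
      W4c3multigrregular.twistBi 1 1 k (CohB1.tensorMod G G') (w₁ + p + m) (w₂ + q + n) :=
  assoc _ _ _ ≪≫ tensorIso (Iso.refl G) ((assoc _ _ _).symm ≪≫ tensorIso (comm _ _) (Iso.refl _) ≪≫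
    assoc _ _ _ ≪≫ tensorIso (Iso.refl G') (Box.T_T k (w₁ + p) (w₂ + q) m n)) ≪≫ (assoc _ _ _).symm

theorem isBiReg_tensor {G G' : (W4c3multigrregular.biProj 1 1 k).Modules}
    (hG : FlatMod.IsFinLocFree G) (hG' : FlatMod.IsFinLocFree G') {p q m n : ℤ}
    (h : W4c3multigrregular.IsBiReg 1 1 k G p q) (h' : W4c3multigrregular.IsBiReg 1 1 k G' m n)
    (hgg : Curv2.IsGloballyGenerated (W4c3multigrregular.twistBi 1 1 k G p q))
    (hgg' : Curv2.IsGloballyGenerated (W4c3multigrregular.twistBi 1 1 k G' m n)) :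
    W4c3multigrregular.IsBiReg 1 1 k (CohB1.tensorMod G G') (p + m) (q + n) := by
  intro u₁ u₂ hu
  haveI : IsProper (W4c3multigrregular.biProj 1 1 k ↘ Spec (CommRingCat.of k)) := by
    haveI : IsProper (CohB1.ProjSpace.toSpec 1 k) := ProjSpace.Basic.isProper_toSpec 1 k
    exact inferInstanceAs (IsProper (W4c3multigrregular.biProj.toSpec 1 1 k))
  haveI : IsNoetherian (W4c3multigrregular.biProj 1 1 k) := Curves.GlobalSections.isNoetherian_of_proper k _
  have hd := dim_le k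
  by_cases h3 : 2 < u₁ + u₂
  · exact Snapper.Chi.subsingleton_HH_of_lt hd _ h3
  obtain ⟨N, π, hπ⟩ := H34.GlobGen.exists_free_epi (locFree_twist k hG' m n) hgg'
  obtain ⟨M, α, hα⟩ := H34.GlobGen.exists_free_epi (locFree_twist k hG p q) hgg
  have hh := h u₁ u₂ hu
  have hh' := h' u₁ u₂ hu
  rw [show p - (u₁ : ℤ) = -(u₁ : ℤ) + p by ring, show q - (u₂ : ℤ) = -(u₂ : ℤ) + q by ring] at hh
  rw [show m - (u₁ : ℤ) = -(u₁ : ℤ) + m by ring, show n - (u₂ : ℤ) = -(u₂ : ℤ) + n by ring] at hh'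
  rw [show p + m - (u₁ : ℤ) = -(u₁ : ℤ) + p + m by ring, show q + n - (u₂ : ℤ) = -(u₂ : ℤ) + q + n by ring]
  refine Main.of_iso k (tensorIso (wIso k G (-(u₁ : ℤ)) (-(u₂ : ℤ)) p q) (Iso.refl _) ≪≫ bigIso k G G' _ _ p q m n) ?_
  have hA := Main.of_iso k (wIso k G (-(u₁ : ℤ)) (-(u₂ : ℤ)) p q).symm hh
  rcases (show u₁ + u₂ = 2 ∨ u₁ + u₂ = 1 by omega) with h2 | h1
  · rw [h2] at hA ⊢
    exact Main.h2_tensor k hd π hA
  · have hB := Main.of_iso k (wIso k G' (-(u₁ : ℤ)) (-(u₂ : ℤ)) m n).symm hh'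
    rw [h1] at hA hB ⊢
    refine Main.h1_tensor k hd (locFree_T k _ _)
      (TensorMod.LocFree.isFinLocFree_tensorMod (locFree_T k _ _) (locFree_twist k hG p q)) π α hA hB ?_
    refine Box.subsingleton_T k fun a b hab => ?_
    unfold Line.Van
    omega

end Groth.Agent.Lib.BiReg90.Quadric
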